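import Cfsg.Agent.H2.Simple
import Cfsg.Agent.H2.Card
import Cfsg.Agent.H2.Decomp
import Cfsg.Agent.H2.Basis
import Cfsg.Agent.H97.Semisimple

/-!
Elements of order r p in PSp_2n(q), r an odd prime different from the characteristic p.
-/

set_option autoImplicit false

namespace Cfsg.Agent.H2

open Module Cfsg.Agent.H97

section Linear

variable {F V : Type*} [Field F] [Finite F] [AddCommGroup V] [Module F V] [FiniteDimensional F V]
variable {r : ℕ} [Fact r.Prime]

/-- An element of order `r` with irreducible action in odd dimension `ord_r q` has a minimal polynomial that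
does not annihilate its inverse. -/
theorem aeval_inv_minpoly_ne_zero (hr2 : r ≠ 2) (hr : (r : F) ≠ 0) (t : End F V) (ht : t ^ r = 1)
    (hfix : ∀ v, t v = v → v = 0) (hdim : finrank F V = orderOf (Nat.card F : ZMod r))
    (hodd : Odd (finrank F V)) :
    Polynomial.aeval (t ^ (r - 1)) (minpoly F t) ≠ 0 := by
  classical
  intro hinv
  have hirr : ∀ W : Submodule F V, W.map t ≤ W → W = ⊥ ∨ W = ⊤ := by
    intro W hW
    have hd : Disjoint W (fixedSpace t) := Submodule.disjoint_def.mpr fun v _ hv => hfix v (mem_fixedSpace.mp hv)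
    have h := dvd_finrank_fpf hr t ht W hW hd
    rw [← hdim] at h
    rcases Nat.eq_zero_or_pos (finrank F W) with h0 | hpos
    · exact Or.inl (Submodule.finrank_eq_zero.mp h0)
    · exact Or.inr (Submodule.eq_top_of_finrank_eq
        (le_antisymm (Submodule.finrank_le W) (Nat.le_of_dvd hpos h)))
  have : Nontrivial V := Module.finrank_pos_iff.mp hodd.pos
  set μ := minpoly F t with hμdef
  have hint : IsIntegral F t := Algebra.IsIntegral.isIntegral t
  have hμ0 : μ ≠ 0 := minpoly.ne_zero hint
  have hμ : Irreducible μ := by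
    refine irreducible_iff.2 ⟨minpoly.not_isUnit F t, fun {a b} hab => ?_⟩
    have h0 : Polynomial.aeval t a * Polynomial.aeval t b = 0 := by
      rw [← map_mul, ← hab]; exact minpoly.aeval F t
    have hunit : ∀ {c d : Polynomial F}, μ = c * d → μ ∣ c → IsUnit d := by
      intro c d hcd hdvd
      obtain ⟨e, he⟩ := hdvd
      have h1 : μ * 1 = μ * (e * d) := by rw [mul_one, ← mul_assoc, ← he, ← hcd]
      exact IsUnit.of_mul_eq_one_right e (mul_left_cancel₀ hμ0 h1).symm
    by_cases hb : Polynomial.aeval t b = 0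
    · exact Or.inl (hunit (by rw [hab, mul_comm]) (minpoly.dvd F t hb))
    · refine Or.inr (hunit hab (minpoly.dvd F t (LinearMap.ext fun y => ?_)))
      have hrng : LinearMap.range (Polynomial.aeval t b) = ⊤ := by
        refine (hirr _ ?_).resolve_left fun h => hb (LinearMap.range_eq_bot.1 h)
        rintro _ ⟨_, ⟨y, rfl⟩, rfl⟩
        refine ⟨t y, ?_⟩
        have h3 : Polynomial.aeval t (b * Polynomial.X) = Polynomial.aeval t (Polynomial.X * b) := by
          rw [mul_comm]
        rw [map_mul, map_mul, Polynomial.aeval_X] at h3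
        exact LinearMap.congr_fun h3 y
      obtain ⟨y', rfl⟩ := (LinearMap.range_eq_top.1 hrng) y
      exact LinearMap.congr_fun h0 y'
  have : Fact (Irreducible μ) := ⟨hμ⟩
  set K := AdjoinRoot μ
  set ρ : K := AdjoinRoot.root μ with hρdef
  have : Module.Finite F K := (AdjoinRoot.powerBasis hμ0).finite
  have : Finite K := Module.finite_of_finite F
  have hann : ∀ P : Polynomial F, Polynomial.aeval t P = 0 → Polynomial.aeval ρ P = 0 := by
    intro P hP
    rw [hρdef, AdjoinRoot.aeval_eq]
    exact AdjoinRoot.mk_eq_zero.mpr (minpoly.dvd F t hP)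
  have hρr : ρ ^ r = 1 := by
    have h := hann (Polynomial.X ^ r - 1) (by simp [ht])
    simpa [sub_eq_zero] using h
  have hρ1 : ρ ≠ 1 := by
    intro h1
    have hdvd : μ ∣ Polynomial.X - 1 := by
      have h2 : Polynomial.aeval ρ (Polynomial.X - 1 : Polynomial F) = 0 := by simp [h1]
      rwa [hρdef, AdjoinRoot.aeval_eq, AdjoinRoot.mk_eq_zero] at h2
    obtain ⟨e, he⟩ := hdvd
    have h3 := congrArg (Polynomial.aeval t) he
    rw [map_mul, hμdef, minpoly.aeval, zero_mul, map_sub, Polynomial.aeval_X, map_one, sub_eq_zero] at h3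
    obtain ⟨v, hv⟩ := exists_ne (0 : V)
    exact hv (hfix v (by rw [h3]; rfl))
  have hord : orderOf ρ = r := orderOf_eq_prime hρr hρ1
  have hinvρ : Polynomial.aeval (ρ ^ (r - 1)) μ = 0 := by
    have h := hann (μ.comp (Polynomial.X ^ (r - 1))) (by
      rw [Polynomial.aeval_comp, map_pow, Polynomial.aeval_X]; exact hinv)
    rwa [Polynomial.aeval_comp, map_pow, Polynomial.aeval_X] at h
  let ψ : K →ₐ[F] K := AdjoinRoot.liftAlgHom μ (Algebra.ofId F K) (ρ ^ (r - 1)) hinvρ
  let ψe : K ≃ₐ[F] K := AlgEquiv.ofBijective ψ (Finite.injective_iff_bijective.mp ψ.toRingHom.injective)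
  cases nonempty_fintype F
  obtain ⟨⟨j, hj⟩, he⟩ := (FiniteField.bijective_frobeniusAlgEquivOfAlgebraic_pow F K).surjective ψe
  have hpow : ρ ^ (r - 1) = ρ ^ Fintype.card F ^ j := by
    have h := congrArg (fun e : K ≃ₐ[F] K => e ρ) he
    simp only [AlgEquiv.coe_pow, FiniteField.coe_frobeniusAlgEquivOfAlgebraic, pow_iterate] at h
    refine Eq.trans ?_ h.symm
    show _ = ψ (AdjoinRoot.root μ)
    exact (AdjoinRoot.liftAlgHom_root _ _ _ hinvρ).symm
  have hz : ((Fintype.card F : ℕ) : ZMod r) ^ j = -1 := by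
    have hdvd : r ∣ Fintype.card F ^ j + 1 := by
      rw [← hord]
      refine orderOf_dvd_of_pow_eq_one ?_
      rw [pow_succ, ← hpow, ← pow_succ, Nat.sub_add_cancel (Fact.out : r.Prime).one_le, hρr]
    have h := (ZMod.natCast_eq_zero_iff _ r).mpr hdvd
    push_cast at h
    exact eq_neg_of_add_eq_zero_left h
  rw [← Nat.card_eq_fintype_card] at hz
  rw [hdim] at hodd
  have hk : orderOf (Nat.card F : ZMod r) ∣ j := by
    refine (Nat.Coprime.dvd_of_dvd_mul_left (Nat.coprime_two_right.mpr hodd)) ?_
    refine orderOf_dvd_of_pow_eq_one ?_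
    rw [mul_comm, pow_mul, hz, neg_one_sq]
  rw [orderOf_dvd_iff_pow_eq_one, hz] at hk
  have h2 : ((2 : ℕ) : ZMod r) = 0 := by push_cast; linear_combination -hk
  exact hr2 ((Nat.prime_dvd_prime_iff_eq Fact.out Nat.prime_two).mp ((ZMod.natCast_eq_zero_iff _ _).mp h2))

end Linear

open Matrix

variable {n : ℕ} {F : Type*} [Field F] [Finite F] {p r : ℕ} [Fact p.Prime] [Fact r.Prime] [CharP F p]

/-- An element of order `r` of Sp_2n commuting with one of order `p` forces `η < n`. -/
theorem eta_lt_of_commute (hr2 : r ≠ 2) (hr : (r : F) ≠ 0) {x u : Matrix.symplecticGroup (Fin n) F}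
    (hx : x ^ r = 1) (hx1 : x ≠ 1) (hu : u ^ p = 1) (hu1 : u ≠ 1) (hxu : Commute x u) {η : ℕ}
    (hη : (Odd (orderOf (Nat.card F : ZMod r)) ∧ η = orderOf (Nat.card F : ZMod r)) ∨
      (Even (orderOf (Nat.card F : ZMod r)) ∧ 2 * η = orderOf (Nat.card F : ZMod r))) : η < n := by
  classical
  set k := orderOf (Nat.card F : ZMod r) with hkdef
  set T : End F (Fin n ⊕ Fin n → F) := spRho n F x with hT
  set U : End F (Fin n ⊕ Fin n → F) := spRho n F u with hU
  have hTr : T ^ r = 1 := by rw [hT, ← map_pow, hx, map_one]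
  have hinj : Function.Injective (spRho n F) := fun a b h => ext_of_mulVec fun v => by
    simpa using LinearMap.congr_fun h v
  have hB : ∀ v w, sympBilin n F (T v) (T w) = sympBilin n F v w := fun v w => by simp [hT]
  have hUB : ∀ v w, sympBilin n F (U v) (U w) = sympBilin n F v w := fun v w => by simp [hU]
  have hTfix : ∀ v, T v = v → ∀ w, sympBilin n F v ((T - 1) w) = 0 := fun v hv w => by
    have h := hB v w
    rw [hv] at h
    rw [LinearMap.sub_apply, Module.End.one_apply, map_sub, h, sub_self]
  -- the moved space is non-degenerate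
  have hnd : ((sympBilin n F).restrict (movedSpace T)).Nondegenerate := by
    refine restrict_nondegenerate (sympBilin n F) (sympBilin_isAlt n F) fun a ha hz => ?_
    refine sympForm_eq_zero_forall fun v => ?_
    obtain ⟨f, hf, w, hw, rfl⟩ : ∃ f ∈ fixedSpace T, ∃ w ∈ movedSpace T, f + w = v := by
      have : v ∈ fixedSpace T ⊔ movedSpace T := by
        rw [(isCompl_fixed_moved hr T hTr).sup_eq_top]; trivial
      exact Submodule.mem_sup.mp this
    rw [← sympBilin_apply, map_add, hz w hw, add_zero]
    obtain ⟨y, rfl⟩ := ha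
    rw [← (sympBilin_isAlt n F).neg_eq, hTfix f (mem_fixedSpace.mp hf) y, neg_zero]
  obtain ⟨w, -, hw, -⟩ := exists_equiv_std _ hnd (fun v => sympBilin_isAlt n F _)
  have hdvd : k ∣ 2 * w := hw ▸ dvd_finrank_fpf hr T hTr _ (movedSpace_inv T) (disjoint_fixed_moved hr T hTr).symm
  have hw0 : w ≠ 0 := by
    intro h0
    rw [h0, mul_zero, Submodule.finrank_eq_zero] at hw
    have hT1 : T - 1 = 0 := LinearMap.range_eq_bot.mp hw
    exact hx1 (hinj (by rw [map_one]; exact sub_eq_zero.mp hT1))
  have hV : finrank F (Fin n ⊕ Fin n → F) = 2 * n := by simp; ring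
  have hwn : w ≤ n := by
    have := Submodule.finrank_le (movedSpace T)
    rw [hw, hV] at this
    omega
  have hηw : η ≤ w := by
    rcases hη with ⟨ho, rfl⟩ | ⟨-, he⟩
    · exact Nat.le_of_dvd (Nat.pos_of_ne_zero hw0) ((Nat.coprime_two_right.mpr ho).dvd_of_dvd_mul_left hdvd)
    · have := Nat.le_of_dvd (by omega) hdvd
      omega
  by_contra! hge
  have hwn' : w = n := by omega
  have hηn : η = n := by omega
  have hfix : ∀ v, T v = v → v = 0 := by
    intro v hv
    have htop : movedSpace T = ⊤ := Submodule.eq_top_of_finrank_eq (by rw [hw, hV, hwn'])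
    exact Submodule.disjoint_def.mp (disjoint_fixed_moved hr T hTr) v (mem_fixedSpace.mpr hv) (by rw [htop]; trivial)
  -- the nilpotent part
  set N : End F (Fin n ⊕ Fin n → F) := U - 1 with hN
  have hNp : N ^ p = 0 := by
    have : Nontrivial (End F (Fin n ⊕ Fin n → F)) := by
      refine ⟨⟨N, 0, fun h => hu1 (hinj (by rw [map_one]; exact sub_eq_zero.mp h))⟩⟩
    have : CharP (End F (Fin n ⊕ Fin n → F)) p :=
      charP_of_injective_algebraMap (FaithfulSMul.algebraMap_injective F (End F (Fin n ⊕ Fin n → F))) p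
    rw [hN, sub_pow_char_of_commute p (Commute.one_right _), one_pow, hU, ← map_pow, hu, map_one, sub_self]
  have hN0 : N ≠ 0 := fun h => hu1 (hinj (by rw [map_one]; exact sub_eq_zero.mp h))
  have hTN : Commute T N := by
    have h : Commute T U := hxu.map (spRho n F)
    exact h.sub_right (Commute.one_right _)
  have hinv : ∀ M : End F (Fin n ⊕ Fin n → F), Commute T M → (LinearMap.range M).map T ≤ LinearMap.range M := by
    rintro M hM _ ⟨_, ⟨v, rfl⟩, rfl⟩
    exact ⟨T v, (LinearMap.congr_fun hM.eq v).symm⟩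
  have hd : ∀ W : Submodule F (Fin n ⊕ Fin n → F), W.map T ≤ W → k ∣ finrank F W := fun W hW =>
    dvd_finrank_fpf hr T hTr W hW (Submodule.disjoint_def.mpr fun v _ hv => hfix v (mem_fixedSpace.mp hv))
  have hlt : ∀ M : End F (Fin n ⊕ Fin n → F), Commute N M → M ≠ 0 →
      finrank F (LinearMap.range (N * M)) < finrank F (LinearMap.range M) := by
    intro M hNM hM
    refine Submodule.finrank_lt_finrank_of_lt (lt_of_le_of_ne ?_ fun heq => hM ?_)
    · rw [hNM.eq]; exact LinearMap.range_comp_le_range N M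
    · have hit : ∀ i, LinearMap.range (N ^ i * M) = LinearMap.range M := by
        intro i
        induction i with
        | zero => rw [pow_zero, one_mul]
        | succ i ih =>
          rw [pow_succ', mul_assoc, Module.End.mul_eq_comp, LinearMap.range_comp, ih, ← LinearMap.range_comp,
            ← Module.End.mul_eq_comp, heq]
      have h := hit p
      rw [hNp, zero_mul, LinearMap.range_zero] at h
      exact LinearMap.range_eq_bot.mp h.symm
  have hdN := hd _ (hinv N hTN)
  have h1 := hlt 1 (Commute.one_right N) (fun h => hN0 (by rw [← mul_one N, h, mul_zero]))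
  rw [mul_one, show LinearMap.range (1 : End F (Fin n ⊕ Fin n → F)) = ⊤ from LinearMap.range_id, finrank_top, hV] at h1
  have hNpos : 0 < finrank F (LinearMap.range N) := Nat.pos_of_ne_zero fun h =>
    hN0 (LinearMap.range_eq_bot.mp (Submodule.finrank_eq_zero.mp h))
  rcases hη with ⟨hodd, hk⟩ | ⟨-, he⟩
  swap
  · have := Nat.le_of_dvd hNpos hdN
    omega
  have hkn : k = n := by omega
  have hdN' : finrank F (LinearMap.range N) = n := by
    obtain ⟨e, he⟩ := hdN
    rcases Nat.lt_or_ge e 2 with h | h
    · interval_cases e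
      · omega
      · omega
    · have : k * 2 ≤ k * e := Nat.mul_le_mul_left _ h
      omega
  have hN2 : N * N = 0 := by
    have h2 := hlt N (Commute.refl N) hN0
    have hd2 := hd _ (hinv (N * N) (hTN.mul_right hTN))
    refine LinearMap.range_eq_bot.mp (Submodule.finrank_eq_zero.mp ?_)
    rcases Nat.eq_zero_or_pos (finrank F (LinearMap.range (N * N))) with h | h
    · exact h
    · have := Nat.le_of_dvd h hd2
      omega
  set R := LinearMap.range N with hR
  have hRinv : ∀ v ∈ R, T v ∈ R := fun v hv => hinv N hTN ⟨v, hv, rfl⟩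
  set t : End F R := T.restrict hRinv with htdef
  have htk : ∀ (i : ℕ) (v : R), ((t ^ i) v : Fin n ⊕ Fin n → F) = (T ^ i) v := by
    intro i
    induction i with
    | zero => intro v; rfl
    | succ i ih => intro v; rw [pow_succ, pow_succ, Module.End.mul_apply, ih]; rfl
  have haeval : ∀ (M : End F (Fin n ⊕ Fin n → F)) (m : End F R), (∀ v : R, ((m v : R) : Fin n ⊕ Fin n → F) = M v) →
      ∀ (P : Polynomial F) (v : R), ((Polynomial.aeval m P v : R) : Fin n ⊕ Fin n → F) = Polynomial.aeval M P v := by
    intro M m hm P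
    induction P using Polynomial.induction_on' with
    | add P Q hP hQ => intro v; simp [hP, hQ]
    | monomial i a =>
      intro v
      have hpow : ∀ (i : ℕ) (v : R), (((m ^ i) v : R) : Fin n ⊕ Fin n → F) = (M ^ i) v := by
        intro i
        induction i with
        | zero => intro v; rfl
        | succ i ih => intro v; rw [pow_succ, pow_succ, Module.End.mul_apply, ih, hm]; rfl
      simp [Polynomial.aeval_monomial, Algebra.algebraMap_eq_smul_one, hpow]
  have htr : t ^ r = 1 := LinearMap.ext fun v => Subtype.ext (by rw [htk, hTr]; rfl)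
  refine aeval_inv_minpoly_ne_zero (r := r) hr2 hr t htr
    (fun v hv => Subtype.ext (hfix _ (congrArg Subtype.val hv))) (by rw [hdN', ← hkn]) (by rw [hdN', ← hkn]; exact hodd)
    (LinearMap.ext fun v => Subtype.ext ?_)
  rw [haeval (T ^ (r - 1)) (t ^ (r - 1)) (htk (r - 1))]
  obtain ⟨v, y, rfl⟩ := v
  show Polynomial.aeval (T ^ (r - 1)) (minpoly F t) (N y) = 0
  refine sympForm_eq_zero_forall fun z => ?_
  -- adjoints
  have hN2' : ∀ v, N (N v) = 0 := fun v => LinearMap.congr_fun hN2 v
  have hNN : ∀ a b, sympBilin n F (N a) b = - sympBilin n F a (N b) := by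
    intro a b
    have h := hUB a (b - N b)
    have hU' : ∀ v, U v = v + N v := fun v => by simp [hN]
    rw [hU', hU', map_sub N, hN2', sub_zero, sub_add_cancel, map_add, LinearMap.add_apply, map_sub] at h
    linear_combination h
  have hTadj : ∀ (i : ℕ) a b, sympBilin n F ((T ^ i) a) ((T ^ i) b) = sympBilin n F a b := by
    intro i
    induction i with
    | zero => intro a b; rfl
    | succ i ih => intro a b; rw [pow_succ', Module.End.mul_apply, Module.End.mul_apply, hB, ih]
  have hinvT : ∀ a b, sympBilin n F ((T ^ (r - 1)) a) b = sympBilin n F a (T b) := by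
    intro a b
    have h := hTadj (r - 1) a (T b)
    rwa [← Module.End.mul_apply, ← pow_succ, Nat.sub_add_cancel (Fact.out : r.Prime).one_le, hTr,
      Module.End.one_apply] at h
  have hadj : ∀ (P : Polynomial F) a b,
      sympBilin n F (Polynomial.aeval (T ^ (r - 1)) P a) b = sympBilin n F a (Polynomial.aeval T P b) := by
    intro P
    induction P using Polynomial.induction_on' with
    | add P Q hP hQ => intro a b; simp only [map_add, LinearMap.add_apply, hP, hQ]
    | monomial i c =>
      intro a b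
      have hi : ∀ (i : ℕ) a b, sympBilin n F (((T ^ (r - 1)) ^ i) a) b = sympBilin n F a ((T ^ i) b) := by
        intro i
        induction i with
        | zero => intro a b; rfl
        | succ i ih => intro a b; rw [pow_succ, Module.End.mul_apply, ih, hinvT, pow_succ', Module.End.mul_apply]
      simp only [Polynomial.aeval_monomial, Algebra.algebraMap_eq_smul_one, smul_mul_assoc, one_mul,
        LinearMap.smul_apply, map_smul, smul_eq_mul, hi]
  rw [← sympBilin_apply, hadj, hNN, neg_eq_zero]
  have hcomm : Commute N (Polynomial.aeval T (minpoly F t)) := by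
    induction (minpoly F t) using Polynomial.induction_on' with
    | add P Q hP hQ => rw [map_add]; exact hP.add_right hQ
    | monomial i c =>
      rw [Polynomial.aeval_monomial]
      exact (Algebra.commute_algebraMap_right c N).mul_right (hTN.symm.pow_right i)
  rw [show N (Polynomial.aeval T (minpoly F t) z) = Polynomial.aeval T (minpoly F t) (N z) from
    LinearMap.congr_fun hcomm.eq z]
  have h0 := haeval T t (fun v => rfl) (minpoly F t) (⟨N z, LinearMap.mem_range_self N z⟩ : R)
  have h1 := LinearMap.congr_fun (minpoly.aeval F t) (⟨N z, LinearMap.mem_range_self N z⟩ : R)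
  rw [show Polynomial.aeval T (minpoly F t) (N z) = 0 from h0.symm.trans (congrArg Subtype.val h1), map_zero]

/-- For `η < n` there is an element of order `r p`. -/
theorem exists_orderOf_mul (hp : (r : F) ≠ 0) (hr2 : r ≠ 2) (hn : 1 ≤ n) {η : ℕ} (hη0 : 1 ≤ η) (hηn : η < n)
    (hk : orderOf (Nat.card F : ZMod r) ∣ 2 * η) : ∃ g : Cfsg.PSp n F, orderOf g = r * p := by
  classical
  cases nonempty_fintype F
  have hrp : r ≠ p := fun h => hp (by rw [h]; exact CharP.cast_eq_zero F p)
  set e : Fin n ⊕ Fin n → F := Pi.single (.inl ⟨0, hn⟩) 1 with he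
  have he0 : e ≠ 0 := by simp [he]
  have horb : MulAction.orbit (Matrix.symplecticGroup (Fin n) F) e = {w | w ≠ 0} := by
    ext w
    refine ⟨?_, fun hw => ?_⟩
    · rintro ⟨g, rfl⟩ h0
      have h' := congrArg (fun w => g⁻¹ • w) h0
      simp only [inv_smul_smul, smul_zero] at h'
      exact he0 h'
    · obtain ⟨g, hg⟩ := exists_map_vec he0 hw
      exact ⟨g, hg⟩
  have hN : Nat.card (MulAction.orbit (Matrix.symplecticGroup (Fin n) F) e) = Nat.card F ^ (2 * n) - 1 := by
    rw [horb, Nat.card_coe_set_eq, show ({w : Fin n ⊕ Fin n → F | w ≠ 0}) = ({0} : Set (Fin n ⊕ Fin n → F))ᶜ from rfl,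
      Set.ncard_compl, Set.ncard_singleton, Nat.card_eq_fintype_card, Nat.card_eq_fintype_card]
    simp [two_mul]
  have hmul := card_eq_orbit_mul_stabilizer (G := Matrix.symplecticGroup (Fin n) F) e
  obtain ⟨n', rfl⟩ : ∃ n', n = n' + 1 := ⟨n - 1, by omega⟩
  rw [hN, card_sp, Finset.prod_range_succ] at hmul
  have hq : 1 < Nat.card F := Finite.one_lt_card
  have hpos : 0 < Nat.card F ^ (2 * (n' + 1)) - 1 := by
    have : 1 < Nat.card F ^ (2 * (n' + 1)) := Nat.one_lt_pow (by omega) hq
    omega
  have hst : Nat.card (MulAction.stabilizer (Matrix.symplecticGroup (Fin (n' + 1)) F) e) =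
      Nat.card F ^ ((n' + 1) ^ 2) * ∏ i ∈ Finset.range n', (Nat.card F ^ (2 * (i + 1)) - 1) := by
    refine Nat.eq_of_mul_eq_mul_left hpos ?_
    rw [← hmul]; ring
  have hdiv : r ∣ Nat.card (MulAction.stabilizer (Matrix.symplecticGroup (Fin (n' + 1)) F) e) := by
    rw [hst]
    refine Dvd.dvd.mul_left (dvd_trans ?_ (Finset.dvd_prod_of_mem _ (Finset.mem_range.mpr (show η - 1 < n' by omega)))) _
    rw [Nat.sub_add_cancel hη0, ← ZMod.natCast_eq_zero_iff, Nat.cast_sub (Nat.one_le_pow _ _ (by omega)),
      Nat.cast_pow, Nat.cast_one, sub_eq_zero, ← orderOf_dvd_iff_pow_eq_one]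
    exact hk
  obtain ⟨x, hx⟩ := exists_prime_orderOf_dvd_card' r hdiv
  set s : Matrix.symplecticGroup (Fin (n' + 1)) F := x.1 with hs
  have hso : orderOf s = r := (Subgroup.orderOf_coe x).trans hx
  set t := transv e (1 : F) with ht
  have htord : orderOf t = p := by
    refine orderOf_eq_prime ?_ ?_
    · have hk' : ∀ i : ℕ, t ^ i = transv e (i : F) := by
        intro i
        induction i with
        | zero => rw [pow_zero, Nat.cast_zero, transv_zero]
        | succ i ih => rw [pow_succ, ih, transv_mul, Nat.cast_succ]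
      rw [hk', CharP.cast_eq_zero, transv_zero]
    · intro h
      obtain ⟨w, hw⟩ := exists_sympForm_eq_one he0
      have h' := congrArg (fun g : Matrix.symplecticGroup (Fin (n' + 1)) F => g • w) h
      simp only [ht, one_smul, smul_eq_mulVec_sp, coe_transv, sympTransvection_mulVec, hw, mul_one,
        add_eq_left] at h'
      rw [he] at h'
      simp at h'
  have hcomm : Commute s t := by
    rw [commute_iff_eq, ← mul_inv_eq_iff_eq_mul, conj_transv, ← smul_eq_mulVec_sp, show s • e = e from x.2]
  have hord : orderOf (s * t) = r * p := by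
    rw [hcomm.orderOf_mul_eq_mul_orderOf_of_coprime (by
      rw [hso, htord]; exact (Nat.coprime_primes Fact.out Fact.out).mpr hrp), hso, htord]
  refine ⟨QuotientGroup.mk' _ (s * t), Nat.dvd_antisymm (hord ▸ orderOf_map_dvd _ _) ?_⟩
  set g := QuotientGroup.mk' (Subgroup.center (Matrix.symplecticGroup (Fin (n' + 1)) F)) (s * t) with hg
  have hz : (s * t) ^ orderOf g ∈ Subgroup.center (Matrix.symplecticGroup (Fin (n' + 1)) F) := by
    rw [← QuotientGroup.eq_one_iff]
    show QuotientGroup.mk' _ ((s * t) ^ orderOf g) = 1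
    rw [map_pow, ← hg, pow_orderOf_eq_one]
  have h2 : r * p ∣ orderOf g * 2 := by
    rw [← hord]
    refine orderOf_dvd_of_pow_eq_one ?_
    rw [pow_mul, sq]
    apply Subtype.ext
    rcases (mem_center_iff_eq hn _).mp hz with h | h <;> rw [Submonoid.coe_mul, h] <;> simp
  by_cases hp2 : p = 2
  · subst hp2
    rw [← hord]
    refine orderOf_dvd_of_pow_eq_one ?_
    have hneg : (-1 : F) = 1 := by
      have h0 : ((2 : ℕ) : F) = 0 := CharP.cast_eq_zero F 2
      push_cast at h0
      linear_combination -h0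
    apply Subtype.ext
    rcases (mem_center_iff_eq hn _).mp hz with h | h
    · exact h
    · rw [h, show (-1 : Matrix (Fin (n' + 1) ⊕ Fin (n' + 1)) (Fin (n' + 1) ⊕ Fin (n' + 1)) F) =
        (-1 : F) • 1 by rw [neg_one_smul], hneg, one_smul]
      rfl
  · refine (Nat.Coprime.dvd_of_dvd_mul_right ?_ h2)
    exact Nat.Coprime.mul_left ((Nat.coprime_primes Fact.out Nat.prime_two).mpr hr2)
      ((Nat.coprime_primes Fact.out Nat.prime_two).mpr hp2)

/-- An element of order `r p` in PSp gives commuting elements in Sp. -/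
theorem exists_commuting_of_orderOf (g : Cfsg.PSp n F) (hg : orderOf g = r * p) :
    ∃ x u : Matrix.symplecticGroup (Fin n) F, x ^ r = 1 ∧ x ≠ 1 ∧ u ^ p = 1 ∧ u ≠ 1 ∧ Commute x u := by
  obtain ⟨s, rfl⟩ := QuotientGroup.mk'_surjective _ g
  have hd : r * p ∣ orderOf s := hg ▸ orderOf_map_dvd _ _
  have h0 : orderOf s ≠ 0 := orderOf_ne_zero_iff.mpr (isOfFinOrder_of_finite s)
  have ha := orderOf_pow_orderOf_div h0 (dvd_trans (dvd_mul_right r p) hd)
  have hb := orderOf_pow_orderOf_div h0 (dvd_trans (dvd_mul_left p r) hd)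
  refine ⟨_, _, orderOf_dvd_iff_pow_eq_one.mp ha.dvd, fun h => ?_, orderOf_dvd_iff_pow_eq_one.mp hb.dvd,
    fun h => ?_, (Commute.refl s).pow_pow _ _⟩
  · rw [h, orderOf_one] at ha; exact (Fact.out : r.Prime).ne_one ha.symm
  · rw [h, orderOf_one] at hb; exact (Fact.out : p.Prime).ne_one hb.symm

end Cfsg.Agent.H2
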