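import Cfsg.Agent.H2.PrimeGraph
import Cfsg.Agent.H6.Torus
import Mathlib.FieldTheory.Finite.Extension

/-!
Elements of order r s in PSp_2n(q) for two odd primes different from the characteristic.
-/

set_option autoImplicit false

namespace Cfsg.Agent.H2

open Module Cfsg.Agent.H97

section Linear

variable {F V : Type*} [Field F] [Finite F] [AddCommGroup V] [Module F V] [FiniteDimensional F V]
variable {r s : ℕ} [Fact r.Prime] [Fact s.Prime]

/-- An irreducible element of order `r s` whose inverse has the same minimal polynomial: both `ord q` are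
even and one power of `q` is `-1` modulo both primes. -/
theorem exists_pow_eq_neg_one_of_aeval_inv (hrs : r ≠ s) (z : End F V) (hz : z ^ (r * s) = 1)
    (hnr : z ^ r ≠ 1) (hns : z ^ s ≠ 1) (hirr : ∀ W : Submodule F V, W.map z ≤ W → W = ⊥ ∨ W = ⊤)
    (hinv : Polynomial.aeval (z ^ (r * s - 1)) (minpoly F z) = 0) :
    ∃ j : ℕ, (Nat.card F : ZMod r) ^ j = -1 ∧ (Nat.card F : ZMod s) ^ j = -1 := by
  classical
  have : Nontrivial V := by
    rcases subsingleton_or_nontrivial V with h | h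
    · exact absurd (LinearMap.ext fun v => Subsingleton.elim _ _) hnr
    · exact h
  set μ := minpoly F z with hμdef
  have hint : IsIntegral F z := Algebra.IsIntegral.isIntegral z
  have hμ0 : μ ≠ 0 := minpoly.ne_zero hint
  have hμ : Irreducible μ := by
    refine irreducible_iff.2 ⟨minpoly.not_isUnit F z, fun {a b} hab => ?_⟩
    have h0 : Polynomial.aeval z a * Polynomial.aeval z b = 0 := by
      rw [← map_mul, ← hab]; exact minpoly.aeval F z
    have hunit : ∀ {c d : Polynomial F}, μ = c * d → μ ∣ c → IsUnit d := by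
      intro c d hcd hdvd
      obtain ⟨e, he⟩ := hdvd
      have h1 : μ * 1 = μ * (e * d) := by rw [mul_one, ← mul_assoc, ← he, ← hcd]
      exact IsUnit.of_mul_eq_one_right e (mul_left_cancel₀ hμ0 h1).symm
    by_cases hb : Polynomial.aeval z b = 0
    · exact Or.inl (hunit (by rw [hab, mul_comm]) (minpoly.dvd F z hb))
    · refine Or.inr (hunit hab (minpoly.dvd F z (LinearMap.ext fun y => ?_)))
      have hrng : LinearMap.range (Polynomial.aeval z b) = ⊤ := by
        refine (hirr _ ?_).resolve_left fun h => hb (LinearMap.range_eq_bot.1 h)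
        rintro _ ⟨_, ⟨y, rfl⟩, rfl⟩
        refine ⟨z y, ?_⟩
        have h3 : Polynomial.aeval z (b * Polynomial.X) = Polynomial.aeval z (Polynomial.X * b) := by
          rw [mul_comm]
        rw [map_mul, map_mul, Polynomial.aeval_X] at h3
        exact LinearMap.congr_fun h3 y
      obtain ⟨y', rfl⟩ := (LinearMap.range_eq_top.1 hrng) y
      exact LinearMap.congr_fun h0 y'
  have : Fact (Irreducible μ) := ⟨hμ⟩
  set K := AdjoinRoot μ
  set ρ : K := AdjoinRoot.root μ with hρdef
  have : Module.Finite F K := (AdjoinRoot.powerBasis hμ0).finite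
  have : Finite K := Module.finite_of_finite F
  have hiff : ∀ i : ℕ, ρ ^ i = 1 ↔ z ^ i = 1 := by
    intro i
    have e : Polynomial.aeval ρ (Polynomial.X ^ i - 1 : Polynomial F) = 0 ↔
        Polynomial.aeval z (Polynomial.X ^ i - 1 : Polynomial F) = 0 := by
      rw [hρdef, AdjoinRoot.aeval_eq, AdjoinRoot.mk_eq_zero]
      exact minpoly.dvd_iff
    simpa [sub_eq_zero] using e
  have hρrs : ρ ^ (r * s) = 1 := (hiff _).mpr hz
  have hord : orderOf ρ = r * s := by
    have hd := orderOf_dvd_of_pow_eq_one hρrs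
    have hr' : ¬ orderOf ρ ∣ r := fun h => hnr ((hiff r).mp (orderOf_dvd_iff_pow_eq_one.mp h))
    have hs' : ¬ orderOf ρ ∣ s := fun h => hns ((hiff s).mp (orderOf_dvd_iff_pow_eq_one.mp h))
    obtain ⟨a, b, ha, hb, hab⟩ := Nat.dvd_mul.mp hd
    rcases (Nat.dvd_prime Fact.out).mp ha with h | h
    · exact absurd (by rw [← hab, h, one_mul]; exact hb) hs'
    · rcases (Nat.dvd_prime Fact.out).mp hb with h' | h'
      · exact absurd (by rw [← hab, h', mul_one]; exact ha) hr'
      · rw [← hab, h, h']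
  have hinvρ : Polynomial.aeval (ρ ^ (r * s - 1)) μ = 0 := by
    have h : Polynomial.aeval z (μ.comp (Polynomial.X ^ (r * s - 1))) = 0 := by
      rw [Polynomial.aeval_comp, map_pow, Polynomial.aeval_X]; exact hinv
    have h' : Polynomial.aeval ρ (μ.comp (Polynomial.X ^ (r * s - 1))) = 0 := by
      rw [hρdef, AdjoinRoot.aeval_eq, AdjoinRoot.mk_eq_zero]; exact minpoly.dvd F z h
    rwa [Polynomial.aeval_comp, map_pow, Polynomial.aeval_X] at h'
  let ψ : K →ₐ[F] K := AdjoinRoot.liftAlgHom μ (Algebra.ofId F K) (ρ ^ (r * s - 1)) hinvρ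
  let ψe : K ≃ₐ[F] K := AlgEquiv.ofBijective ψ (Finite.injective_iff_bijective.mp ψ.toRingHom.injective)
  cases nonempty_fintype F
  obtain ⟨⟨j, hj⟩, he⟩ := (FiniteField.bijective_frobeniusAlgEquivOfAlgebraic_pow F K).surjective ψe
  have hpow : ρ ^ (r * s - 1) = ρ ^ Fintype.card F ^ j := by
    have h := congrArg (fun e : K ≃ₐ[F] K => e ρ) he
    simp only [AlgEquiv.coe_pow, FiniteField.coe_frobeniusAlgEquivOfAlgebraic, pow_iterate] at h
    refine Eq.trans ?_ h.symm
    show _ = ψ (AdjoinRoot.root μ)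
    exact (AdjoinRoot.liftAlgHom_root _ _ _ hinvρ).symm
  have hdvd : r * s ∣ Fintype.card F ^ j + 1 := by
    rw [← hord]
    refine orderOf_dvd_of_pow_eq_one ?_
    have hpos : 1 ≤ r * s := Nat.mul_pos (Fact.out : r.Prime).pos (Fact.out : s.Prime).pos
    rw [pow_succ, ← hpow, ← pow_succ, Nat.sub_add_cancel hpos, hρrs]
  refine ⟨j, ?_, ?_⟩ <;> rw [Nat.card_eq_fintype_card]
  · have h := (ZMod.natCast_eq_zero_iff _ r).mpr (dvd_trans (dvd_mul_right r s) hdvd)
    push_cast at h
    exact eq_neg_of_add_eq_zero_left h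
  · have h := (ZMod.natCast_eq_zero_iff _ s).mpr (dvd_trans (dvd_mul_left s r) hdvd)
    push_cast at h
    exact eq_neg_of_add_eq_zero_left h

end Linear

/-- `η` of the multiplicative order. -/
def IsEta (k η : ℕ) : Prop := (Odd k ∧ η = k) ∨ (Even k ∧ 2 * η = k)

/-- Two orders with a common power equal to `-1` are both even. -/
theorem even_and_half {r : ℕ} [Fact r.Prime] (hr2 : r ≠ 2) {q : ZMod r} {j : ℕ} (hj : q ^ j = -1) :
    orderOf q ∣ 2 * j ∧ ¬ orderOf q ∣ j := by
  refine ⟨orderOf_dvd_of_pow_eq_one (by rw [mul_comm, pow_mul, hj, neg_one_sq]), fun h => ?_⟩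
  rw [orderOf_dvd_iff_pow_eq_one, hj] at h
  have h2 : ((2 : ℕ) : ZMod r) = 0 := by push_cast; linear_combination -h
  exact hr2 ((Nat.prime_dvd_prime_iff_eq Fact.out Nat.prime_two).mp ((ZMod.natCast_eq_zero_iff _ _).mp h2))

/-- The arithmetic of the non-adjacency. -/
theorem arith_selfdual {k l ηk ηl e : ℕ} (hk : IsEta k ηk) (hl : IsEta l ηl) (hle : ηk ≤ ηl) (hk0 : 0 < k)
    {n j : ℕ} (hj : k ∣ 2 * j) (hj' : ¬ k ∣ j) (hi : l ∣ 2 * j) (hi' : ¬ l ∣ j) (hek : k ∣ e) (hel : l ∣ e)
    (he0 : 0 < e) (hen : e ≤ 2 * n) (hn : n < ηk + ηl) : ∃ t, Odd t ∧ l = k * t := by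
  have hev : ∀ {k ηk : ℕ}, IsEta k ηk → k ∣ 2 * j → ¬ k ∣ j → k = 2 * ηk ∧ ηk ∣ j ∧ Odd (j / ηk) := by
    intro k η h hd hnd
    rcases h with ⟨ho, rfl⟩ | ⟨-, he⟩
    · exact absurd ((Nat.coprime_two_right.mpr ho).dvd_of_dvd_mul_left hd) hnd
    · subst he
      have hdj : η ∣ j := Nat.dvd_of_mul_dvd_mul_left two_pos hd
      refine ⟨rfl, hdj, ?_⟩
      rw [← Nat.not_even_iff_odd]
      rintro ⟨c, hc⟩
      refine hnd ⟨c, ?_⟩
      rw [← Nat.div_mul_cancel hdj, hc]; ring
  obtain ⟨rfl, ha, hao⟩ := hev hk hj hj'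
  obtain ⟨rfl, hb, hbo⟩ := hev hl hi hi'
  obtain ⟨a, rfl⟩ := hek
  obtain ⟨b, hbe⟩ := hel
  have hab : ηk * a = ηl * b := Nat.eq_of_mul_eq_mul_left two_pos (by linarith)
  have hb0 : 0 < b := by
    rcases Nat.eq_zero_or_pos b with h | h
    · rw [h, mul_zero] at hbe; omega
    · exact h
  have hblt : b < 2 := by
    by_contra! h
    have : ηl * 2 ≤ ηl * b := Nat.mul_le_mul_left _ h
    nlinarith
  have hb1 : b = 1 := by omega
  rw [hb1, mul_one] at hab
  refine ⟨a, ?_, by rw [← hab]; ring⟩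
  have hje : j / ηk = a * (j / ηl) := by
    have hk1 : 0 < ηk := by omega
    refine Nat.div_eq_of_eq_mul_right hk1 ?_
    rw [← mul_assoc, hab, Nat.mul_div_cancel' hb]
  rw [hje, Nat.odd_mul] at hao
  exact hao.1

theorem arith_paired {k l ηk ηl e : ℕ} (hk : IsEta k ηk) (hl : IsEta l ηl) (hle : ηk ≤ ηl)
    {n : ℕ} (hek : k ∣ e) (hel : l ∣ e) (he0 : 0 < e) (hen : e ≤ n) (hn : n < ηk + ηl) :
    ∃ t, Odd t ∧ l = k * t := by
  obtain ⟨b, hb⟩ := hel
  rcases hl with ⟨ho, rfl⟩ | ⟨-, he⟩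
  · have hb1 : b = 1 := by
      rcases b with - | - | b
      · omega
      · rfl
      · nlinarith
    rw [hb1, mul_one] at hb
    rw [hb] at hek
    obtain ⟨t, ht⟩ := hek
    refine ⟨t, ?_, ht⟩
    rw [ht, Nat.odd_mul] at ho
    exact ho.2
  · subst he
    have : 2 * ηl ≤ e := Nat.le_of_dvd he0 ⟨b, hb⟩
    omega

open Matrix

variable {n : ℕ} {F : Type*} [Field F] [Finite F] {r s : ℕ} [Fact r.Prime] [Fact s.Prime]

/-- Commuting elements of orders `r` and `s` in Sp_2n force adjacency conditions. -/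
theorem cond_of_commute (hr2 : r ≠ 2) (hs2 : s ≠ 2) (hrs : r ≠ s) (hr : (r : F) ≠ 0) (hs : (s : F) ≠ 0)
    {x y : Matrix.symplecticGroup (Fin n) F} (hx : x ^ r = 1) (hx1 : x ≠ 1) (hy : y ^ s = 1) (hy1 : y ≠ 1)
    (hxy : Commute x y) {ηk ηl : ℕ} (hηk : IsEta (orderOf (Nat.card F : ZMod r)) ηk)
    (hηl : IsEta (orderOf (Nat.card F : ZMod s)) ηl) (hle : ηk ≤ ηl) (hn : n < ηk + ηl) :
    ∃ t, Odd t ∧ orderOf (Nat.card F : ZMod s) = orderOf (Nat.card F : ZMod r) * t := by
  classical
  set k := orderOf (Nat.card F : ZMod r) with hkdef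
  set l := orderOf (Nat.card F : ZMod s) with hldef
  set T : End F (Fin n ⊕ Fin n → F) := spRho n F x with hT
  set U : End F (Fin n ⊕ Fin n → F) := spRho n F y with hU
  have hTr : T ^ r = 1 := by rw [hT, ← map_pow, hx, map_one]
  have hUs : U ^ s = 1 := by rw [hU, ← map_pow, hy, map_one]
  have hinj : Function.Injective (spRho n F) := fun a b h => ext_of_mulVec fun v => by
    simpa using LinearMap.congr_fun h v
  have hTU : Commute T U := hxy.map (spRho n F)
  have hmoved : ∀ {g : Matrix.symplecticGroup (Fin n) F} {p : ℕ} [Fact p.Prime], (p : F) ≠ 0 → g ^ p = 1 →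
      g ≠ 1 → ∀ η, IsEta (orderOf (Nat.card F : ZMod p)) η →
      2 * η ≤ finrank F (movedSpace (spRho n F g)) ∧ (∀ a ∈ movedSpace (spRho n F g), ∀ f ∈ fixedSpace (spRho n F g),
        sympBilin n F a f = 0) := by
    intro g p _ hp hg hg1 η hη
    set G : End F (Fin n ⊕ Fin n → F) := spRho n F g with hG
    have hGp : G ^ p = 1 := by rw [hG, ← map_pow, hg, map_one]
    have hperp : ∀ a ∈ movedSpace G, ∀ f ∈ fixedSpace G, sympBilin n F a f = 0 := by
      rintro _ ⟨w, rfl⟩ f hf
      have h : sympBilin n F (G w) (G f) = sympBilin n F w f := by simp [hG]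
      rw [mem_fixedSpace.mp hf] at h
      rw [LinearMap.sub_apply, Module.End.one_apply, map_sub, LinearMap.sub_apply, h, sub_self]
    refine ⟨?_, hperp⟩
    have hnd : ((sympBilin n F).restrict (movedSpace G)).Nondegenerate := by
      refine restrict_nondegenerate (sympBilin n F) (sympBilin_isAlt n F) fun a ha hz => ?_
      refine sympForm_eq_zero_forall fun v => ?_
      obtain ⟨f, hf, w, hw, rfl⟩ : ∃ f ∈ fixedSpace G, ∃ w ∈ movedSpace G, f + w = v := by
        have : v ∈ fixedSpace G ⊔ movedSpace G := by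
          rw [(isCompl_fixed_moved hp G hGp).sup_eq_top]; trivial
        exact Submodule.mem_sup.mp this
      rw [← sympBilin_apply, map_add, hz w hw, hperp a ha f hf, add_zero]
    obtain ⟨w, -, hw, -⟩ := exists_equiv_std _ hnd (fun v => sympBilin_isAlt n F _)
    have hd : orderOf (Nat.card F : ZMod p) ∣ 2 * w :=
      hw ▸ dvd_finrank_fpf hp G hGp _ (movedSpace_inv G) (disjoint_fixed_moved hp G hGp).symm
    have hw0 : w ≠ 0 := by
      intro h0
      rw [h0, mul_zero, Submodule.finrank_eq_zero] at hw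
      exact hg1 (hinj (by rw [map_one]; exact sub_eq_zero.mp (LinearMap.range_eq_bot.mp hw)))
    rw [hw]
    rcases hη with ⟨ho, rfl⟩ | ⟨-, he⟩
    · exact Nat.mul_le_mul_left 2 (Nat.le_of_dvd (Nat.pos_of_ne_zero hw0) ((Nat.coprime_two_right.mpr ho).dvd_of_dvd_mul_left hd))
    · rw [he]; exact Nat.le_of_dvd (by omega) hd
  obtain ⟨hdimx, hperpx⟩ := hmoved hr hx hx1 ηk hηk
  obtain ⟨hdimy, hperpy⟩ := hmoved hs hy hy1 ηl hηl
  rw [← hT] at hdimx
  rw [← hU] at hdimy
  set W := movedSpace T ⊓ movedSpace U with hW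
  have hV : finrank F (Fin n ⊕ Fin n → F) = 2 * n := by simp; ring
  have hW0 : W ≠ ⊥ := by
    intro h0
    have h := Submodule.finrank_sup_add_finrank_inf_eq (movedSpace T) (movedSpace U)
    have h' := Submodule.finrank_le (movedSpace T ⊔ movedSpace U)
    rw [← hW, h0, finrank_bot, add_zero] at h
    rw [hV, h] at h'
    omega
  have hTW : W.map T ≤ W := by
    refine le_inf ((Submodule.map_mono inf_le_left).trans (movedSpace_inv T)) ?_
    refine (Submodule.map_mono inf_le_right).trans ?_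
    rintro _ ⟨_, ⟨w, rfl⟩, rfl⟩
    exact ⟨T w, (LinearMap.congr_fun (hTU.sub_right (Commute.one_right T)).eq w).symm⟩
  have hUW : W.map U ≤ W := by
    refine le_inf ?_ ((Submodule.map_mono inf_le_right).trans (movedSpace_inv U))
    refine (Submodule.map_mono inf_le_left).trans ?_
    rintro _ ⟨_, ⟨w, rfl⟩, rfl⟩
    exact ⟨U w, (LinearMap.congr_fun (hTU.symm.sub_right (Commute.one_right U)).eq w).symm⟩
  set z : End F (Fin n ⊕ Fin n → F) := T * U with hzdef
  have hzW : W.map z ≤ W := by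
    rw [hzdef, Module.End.mul_eq_comp, Submodule.map_comp]
    exact (Submodule.map_mono hUW).trans hTW
  -- a minimal invariant subspace
  haveI : Finite (Submodule F (Fin n ⊕ Fin n → F)) := Finite.of_injective _ SetLike.coe_injective
  haveI := Fintype.ofFinite (Submodule F (Fin n ⊕ Fin n → F))
  obtain ⟨Z, hZmem, hZmin⟩ := (Finset.univ.filter fun Z : Submodule F (Fin n ⊕ Fin n → F) =>
    Z ≤ W ∧ Z.map z ≤ Z ∧ Z ≠ ⊥).exists_min_image (fun Z => finrank F Z) ⟨W, by simp [hzW, hW0]⟩
  obtain ⟨hZW, hZz, hZ0⟩ := (Finset.mem_filter.1 hZmem).2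
  have hzpow : ∀ i : ℕ, Z.map (z ^ i) ≤ Z := by
    intro i
    induction i with
    | zero => rw [pow_zero, Module.End.one_eq_id, Submodule.map_id]
    | succ i ih =>
      rw [pow_succ, Module.End.mul_eq_comp, Submodule.map_comp]
      exact (Submodule.map_mono hZz).trans ih
  obtain ⟨a, ha⟩ : ∃ a, z ^ a = T := by
    obtain ⟨a, ha1, ha2⟩ := Nat.chineseRemainder ((Nat.coprime_primes Fact.out Fact.out).mpr hrs) 1 0
    refine ⟨a, ?_⟩
    have e1 : T ^ a = T := by
      rw [← Nat.div_add_mod a r, pow_add, pow_mul, hTr, one_pow, one_mul,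
        show a % r = 1 by rw [ha1, Nat.mod_eq_of_lt (Fact.out : r.Prime).one_lt], pow_one]
    have e2 : U ^ a = 1 := by
      obtain ⟨c, hc⟩ := Nat.modEq_zero_iff_dvd.mp ha2
      rw [hc, pow_mul, hUs, one_pow]
    rw [hzdef, hTU.mul_pow, e1, e2, mul_one]
  obtain ⟨b, hb⟩ : ∃ b, z ^ b = U := by
    obtain ⟨b, hb1, hb2⟩ := Nat.chineseRemainder ((Nat.coprime_primes Fact.out Fact.out).mpr hrs) 0 1
    refine ⟨b, ?_⟩
    have e1 : T ^ b = 1 := by
      obtain ⟨c, hc⟩ := Nat.modEq_zero_iff_dvd.mp hb1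
      rw [hc, pow_mul, hTr, one_pow]
    have e2 : U ^ b = U := by
      rw [← Nat.div_add_mod b s, pow_add, pow_mul, hUs, one_pow, one_mul,
        show b % s = 1 by rw [hb2, Nat.mod_eq_of_lt (Fact.out : s.Prime).one_lt], pow_one]
    rw [hzdef, hTU.mul_pow, e1, e2, one_mul]
  have hfixT : Disjoint Z (fixedSpace T) :=
    ((disjoint_fixed_moved hr T hTr).symm).mono_left (hZW.trans inf_le_left)
  have hfixU : Disjoint Z (fixedSpace U) :=
    ((disjoint_fixed_moved hs U hUs).symm).mono_left (hZW.trans inf_le_right)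
  have hkZ : k ∣ finrank F Z := dvd_finrank_fpf hr T hTr Z (ha ▸ hzpow a) hfixT
  have hlZ : l ∣ finrank F Z := dvd_finrank_fpf hs U hUs Z (hb ▸ hzpow b) hfixU
  have hpos : 0 < finrank F Z := Nat.pos_of_ne_zero fun h => hZ0 (Submodule.finrank_eq_zero.mp h)
  have hzrs : z ^ (r * s) = 1 := by
    rw [hzdef, hTU.mul_pow, pow_mul, hTr, one_pow, mul_comm r s, pow_mul, hUs, one_pow, one_mul]
  have hzB : ∀ v w, sympBilin n F (z v) (z w) = sympBilin n F v w := fun v w => by simp [hzdef, hT, hU, ← Matrix.mulVec_mulVec]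
  have hzpB : ∀ (i : ℕ) v w, sympBilin n F ((z ^ i) v) ((z ^ i) w) = sympBilin n F v w := by
    intro i
    induction i with
    | zero => intro v w; rfl
    | succ i ih =>
      intro v w
      have h := hzB ((z ^ i) v) ((z ^ i) w)
      rw [ih] at h
      rw [← h, pow_succ']
      rfl
  have hrspos : 1 ≤ r * s := Nat.mul_pos (Fact.out : r.Prime).pos (Fact.out : s.Prime).pos
  -- the radical of the restricted form
  by_cases htot : ∀ v ∈ Z, ∀ w ∈ Z, sympBilin n F v w = 0
  · -- totally isotropic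
    refine arith_paired hηk hηl hle hkZ hlZ hpos ?_ hn
    have horth : Z ≤ orth (sympBilin n F) Z := fun v hv w hw => htot w hw v hv
    have h1 : finrank F (orth (sympBilin n F) Z) + finrank F Z = 2 * n := by
      rw [orth_eq_orthogonal]
      have h := LinearMap.BilinForm.finrank_orthogonal (sympBilin_nondegenerate n F) (W := Z)
      have := Submodule.finrank_le Z
      rw [hV] at h this
      omega
    have := Submodule.finrank_mono horth
    omega
  · push Not at htot
    -- the radical is trivial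
    have hrad : ∀ v ∈ Z, (∀ w ∈ Z, sympBilin n F v w = 0) → v = 0 := by
      intro v hv hvz
      by_contra hv0
      let R : Submodule F (Fin n ⊕ Fin n → F) := Z ⊓ orth (sympBilin n F) Z
      have hR : R.map z ≤ R := by
        rintro _ ⟨u, ⟨hu1, hu2⟩, rfl⟩
        refine ⟨hZz ⟨u, hu1, rfl⟩, fun w hw => ?_⟩
        have hw' : (z ^ (r * s - 1)) w ∈ Z := hzpow _ ⟨w, hw, rfl⟩
        have h := hzB ((z ^ (r * s - 1)) w) u
        rw [← Module.End.mul_apply, ← pow_succ', Nat.sub_add_cancel hrspos, hzrs, Module.End.one_apply] at h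
        rw [h]
        exact hu2 _ hw'
      have hR0 : R ≠ ⊥ := by
        intro h
        refine hv0 ((Submodule.mem_bot F).mp (h ▸ ⟨hv, fun w hw => ?_⟩))
        rw [← (sympBilin_isAlt n F).neg_eq, hvz w hw, neg_zero]
      have hRle := hZmin R (Finset.mem_filter.2 ⟨Finset.mem_univ _, (inf_le_left.trans hZW), hR, hR0⟩)
      have hRZ : R = Z := Submodule.eq_of_le_of_finrank_le inf_le_left hRle
      obtain ⟨v', hv', w', hw', hne⟩ := htot
      have : w' ∈ R := hRZ ▸ hw'
      exact hne (this.2 v' hv')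
    -- the restriction of z
    have hzmem : ∀ v ∈ Z, z v ∈ Z := fun v hv => hZz ⟨v, hv, rfl⟩
    set t : End F Z := z.restrict hzmem with htdef
    have htk : ∀ (i : ℕ) (v : Z), ((t ^ i) v : Fin n ⊕ Fin n → F) = (z ^ i) v := by
      intro i
      induction i with
      | zero => intro v; rfl
      | succ i ih => intro v; rw [pow_succ, pow_succ, Module.End.mul_apply, ih]; rfl
    have hirr : ∀ Y : Submodule F Z, Y.map t ≤ Y → Y = ⊥ ∨ Y = ⊤ := by
      intro Y hY
      by_cases hY0 : Y = ⊥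
      · exact Or.inl hY0
      right
      have hle' : Y.map Z.subtype ≤ Z := Submodule.map_subtype_le Z Y
      have hinvY : (Y.map Z.subtype).map z ≤ Y.map Z.subtype := by
        rintro _ ⟨_, ⟨u, hu, rfl⟩, rfl⟩
        exact ⟨t u, hY ⟨u, hu, rfl⟩, rfl⟩
      have hne : Y.map Z.subtype ≠ ⊥ := fun h => hY0
        (Submodule.map_injective_of_injective Z.subtype_injective (by rw [h, Submodule.map_bot]))
      have := hZmin (Y.map Z.subtype) (Finset.mem_filter.2 ⟨Finset.mem_univ _, hle'.trans hZW, hinvY, hne⟩)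
      have heq := Submodule.eq_of_le_of_finrank_le hle' this
      exact Submodule.map_injective_of_injective Z.subtype_injective (by rw [heq, Submodule.map_subtype_top])
    obtain ⟨v₀, hv₀, hv₀0⟩ := Submodule.exists_mem_ne_zero_of_ne_bot hZ0
    have hnr : t ^ r ≠ 1 := by
      intro h
      have e : (z ^ r) v₀ = v₀ := (htk r ⟨v₀, hv₀⟩).symm.trans (by rw [h]; rfl)
      rw [hzdef, hTU.mul_pow, hTr, one_mul] at e
      obtain ⟨c, hc⟩ : ∃ c, s ∣ r * c + (s - 1) := by
        obtain ⟨c, hc, -⟩ := Nat.chineseRemainder ((Nat.coprime_primes Fact.out Fact.out).mpr (Ne.symm hrs)) 1 0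
        obtain ⟨d, hd, hd'⟩ := Nat.chineseRemainder ((Nat.coprime_primes Fact.out Fact.out).mpr (Ne.symm hrs)) 1 0
        obtain ⟨g, hg⟩ := Nat.modEq_zero_iff_dvd.mp hd'
        refine ⟨g, ?_⟩
        rw [← hg, ← Nat.modEq_zero_iff_dvd]
        have hs1 : 1 + (s - 1) = s := Nat.add_sub_cancel' (Fact.out : s.Prime).one_le
        calc d + (s - 1) ≡ 1 + (s - 1) [MOD s] := Nat.ModEq.add_right _ hd
          _ ≡ 0 [MOD s] := by rw [hs1]; exact Nat.modEq_zero_iff_dvd.mpr (dvd_refl s)
      obtain ⟨d, hd⟩ := hc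
      have hfix : ∀ i : ℕ, ((U ^ r) ^ i) v₀ = v₀ := by
        intro i
        induction i with
        | zero => rfl
        | succ i ih => rw [pow_succ, Module.End.mul_apply, e, ih]
      have h1 : (U ^ (r * c + (s - 1))) v₀ = (U ^ (s - 1)) v₀ := by
        have hc' := hfix c
        rw [← pow_mul] at hc'
        rw [add_comm, pow_add, Module.End.mul_apply, hc']
      rw [hd, pow_mul, hUs, one_pow, Module.End.one_apply] at h1
      have h2 : U v₀ = v₀ := by
        conv_lhs => rw [h1]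
        rw [← Module.End.mul_apply, ← pow_succ', Nat.sub_add_cancel (Fact.out : s.Prime).one_le, hUs,
          Module.End.one_apply]
      exact hv₀0 (Submodule.disjoint_def.mp hfixU v₀ hv₀ (mem_fixedSpace.mpr h2))
    have hns : t ^ s ≠ 1 := by
      intro h
      have e : (z ^ s) v₀ = v₀ := (htk s ⟨v₀, hv₀⟩).symm.trans (by rw [h]; rfl)
      rw [hzdef, hTU.mul_pow, hUs, mul_one] at e
      obtain ⟨c, hc⟩ : ∃ c, r ∣ s * c + (r - 1) := by
        obtain ⟨d, hd, hd'⟩ := Nat.chineseRemainder ((Nat.coprime_primes Fact.out Fact.out).mpr hrs) 1 0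
        obtain ⟨g, hg⟩ := Nat.modEq_zero_iff_dvd.mp hd'
        refine ⟨g, ?_⟩
        rw [← hg, ← Nat.modEq_zero_iff_dvd]
        have hr1 : 1 + (r - 1) = r := Nat.add_sub_cancel' (Fact.out : r.Prime).one_le
        calc d + (r - 1) ≡ 1 + (r - 1) [MOD r] := Nat.ModEq.add_right _ hd
          _ ≡ 0 [MOD r] := by rw [hr1]; exact Nat.modEq_zero_iff_dvd.mpr (dvd_refl r)
      obtain ⟨d, hd⟩ := hc
      have hfix : ∀ i : ℕ, ((T ^ s) ^ i) v₀ = v₀ := by
        intro i
        induction i with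
        | zero => rfl
        | succ i ih => rw [pow_succ, Module.End.mul_apply, e, ih]
      have h1 : (T ^ (s * c + (r - 1))) v₀ = (T ^ (r - 1)) v₀ := by
        have hc' := hfix c
        rw [← pow_mul] at hc'
        rw [add_comm, pow_add, Module.End.mul_apply, hc']
      rw [hd, pow_mul, hTr, one_pow, Module.End.one_apply] at h1
      have h2 : T v₀ = v₀ := by
        conv_lhs => rw [h1]
        rw [← Module.End.mul_apply, ← pow_succ', Nat.sub_add_cancel (Fact.out : r.Prime).one_le, hTr,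
          Module.End.one_apply]
      exact hv₀0 (Submodule.disjoint_def.mp hfixT v₀ hv₀ (mem_fixedSpace.mpr h2))
    have htrs : t ^ (r * s) = 1 := LinearMap.ext fun v => Subtype.ext (by rw [htk, hzrs]; rfl)
    have hadj : ∀ (i : ℕ) (u w : Z), sympBilin n F (((t ^ (r * s - 1)) ^ i) u : Fin n ⊕ Fin n → F) w =
        sympBilin n F (u : Fin n ⊕ Fin n → F) ((t ^ i) w : Z) := by
      intro i u w
      rw [← pow_mul, htk, htk]
      have h := hzpB i ((z ^ ((r * s - 1) * i)) u) w
      rw [← Module.End.mul_apply, ← pow_add, show i + (r * s - 1) * i = r * s * i by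
        conv_rhs => rw [← Nat.sub_add_cancel hrspos, Nat.add_mul, one_mul]
        ring, pow_mul, hzrs, one_pow, Module.End.one_apply] at h
      exact h.symm
    have hinv : Polynomial.aeval (t ^ (r * s - 1)) (minpoly F t) = 0 := by
      refine LinearMap.ext fun u => Subtype.ext ?_
      refine hrad _ (Subtype.coe_prop _) fun w hw => ?_
      have key : ∀ P : Polynomial F, sympBilin n F ((Polynomial.aeval (t ^ (r * s - 1)) P u : Z) : Fin n ⊕ Fin n → F) w =
          sympBilin n F (u : Fin n ⊕ Fin n → F) ((Polynomial.aeval t P ⟨w, hw⟩ : Z) : Fin n ⊕ Fin n → F) := by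
        intro P
        induction P using Polynomial.induction_on' with
        | add P Q hP hQ => simp only [map_add, LinearMap.add_apply, Submodule.coe_add, hP, hQ]
        | monomial i c =>
          simp only [Polynomial.aeval_monomial, Algebra.algebraMap_eq_smul_one, smul_mul_assoc, one_mul,
            LinearMap.smul_apply, SetLike.val_smul, map_smul, smul_eq_mul]
          rw [hadj i u ⟨w, hw⟩]
      rw [key, congrArg Subtype.val (LinearMap.congr_fun (minpoly.aeval F t) ⟨w, hw⟩)]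
      exact map_zero _
    obtain ⟨j, hj, hi⟩ := exists_pow_eq_neg_one_of_aeval_inv hrs t htrs hnr hns hirr hinv
    obtain ⟨hj1, hj2⟩ := even_and_half hr2 hj
    obtain ⟨hi1, hi2⟩ := even_and_half hs2 hi
    refine arith_selfdual hηk hηl hle (orderOf_pos_zmod hr) hj1 hj2 hi1 hi2 hkZ hlZ hpos ?_ hn
    rw [← hV]
    exact Submodule.finrank_le Z

/-! ### Existence -/

/-- An element of order `r` in a symplectic group of rank at least `η`. -/
theorem exists_orderOf_sp (hr : (r : F) ≠ 0) {η a : ℕ} (hη : IsEta (orderOf (Nat.card F : ZMod r)) η)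
    (ha : η ≤ a) : ∃ x : Matrix.symplecticGroup (Fin a) F, orderOf x = r := by
  have hη0 : 1 ≤ η := by
    have := orderOf_pos_zmod hr
    rcases hη with ⟨-, h⟩ | ⟨-, h⟩ <;> omega
  refine exists_prime_orderOf_dvd_card' r ?_
  rw [card_sp]
  refine Dvd.dvd.mul_left (dvd_trans ?_ (Finset.dvd_prod_of_mem _ (Finset.mem_range.mpr (show η - 1 < a by omega)))) _
  rw [Nat.sub_add_cancel hη0, ← ZMod.natCast_eq_zero_iff, Nat.cast_sub (Nat.one_le_pow _ _ Nat.card_pos),
    Nat.cast_pow, Nat.cast_one, sub_eq_zero, ← orderOf_dvd_iff_pow_eq_one]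
  rcases hη with ⟨-, h⟩ | ⟨-, h⟩
  · rw [h]; exact dvd_mul_left _ 2
  · rw [h]

/-- Commuting symplectic groups of complementary ranks. -/
theorem exists_prod_embedding (F : Type*) [Field F] (a b : ℕ) :
    ∃ f : Matrix.symplecticGroup (Fin a) F × Matrix.symplecticGroup (Fin b) F →*
      Matrix.symplecticGroup (Fin (a + b)) F, Function.Injective f := by
  classical
  let B : LinearMap.BilinForm F ((Fin a ⊕ Fin a → F) × (Fin b ⊕ Fin b → F)) :=
    (sympBilin a F).compl₁₂ (LinearMap.fst F (Fin a ⊕ Fin a → F) (Fin b ⊕ Fin b → F)) (LinearMap.fst F (Fin a ⊕ Fin a → F) (Fin b ⊕ Fin b → F)) +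
      (sympBilin b F).compl₁₂ (LinearMap.snd F (Fin a ⊕ Fin a → F) (Fin b ⊕ Fin b → F)) (LinearMap.snd F (Fin a ⊕ Fin a → F) (Fin b ⊕ Fin b → F))
  have hB : ∀ u v : (Fin a ⊕ Fin a → F) × (Fin b ⊕ Fin b → F), B u v = sympBilin a F u.1 v.1 + sympBilin b F u.2 v.2 := fun u v => rfl
  have hA : B.IsAlt := fun u => by rw [hB, sympBilin_isAlt a F, sympBilin_isAlt b F, add_zero]
  have hN : B.Nondegenerate := by
    have key : ∀ u : (Fin a ⊕ Fin a → F) × (Fin b ⊕ Fin b → F), (∀ v, B u v = 0) → u = 0 := fun u hu => Prod.ext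
      (sympForm_eq_zero_forall fun v => by
        have h := hu (v, 0)
        simp only [hB, map_zero, add_zero, zero_add, sympBilin_apply] at h
        exact h)
      (sympForm_eq_zero_forall fun v => by
        have h := hu (0, v)
        simp only [hB, map_zero, add_zero, zero_add, sympBilin_apply] at h
        exact h)
    exact ⟨key, fun v hv => key v fun u => by rw [← hA.neg_eq, hv u, neg_zero]⟩
  obtain ⟨φ⟩ := isometries_equiv_sp B hN hA (m := a + b) (by simp [Module.finrank_prod]; ring)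
  let g : Matrix.symplecticGroup (Fin a) F × Matrix.symplecticGroup (Fin b) F →* isometries B :=
    { toFun := fun p => ⟨(spToLinearEquiv a F p.1).prodCongr (spToLinearEquiv b F p.2), fun u v => by
        simp [hB, spToLinearEquiv_apply]⟩
      map_one' := Subtype.ext (LinearEquiv.ext fun u => by simp)
      map_mul' := fun p p' => Subtype.ext (LinearEquiv.ext fun u => by simp [← Matrix.mulVec_mulVec]) }
  refine ⟨φ.toMonoidHom.comp g, φ.injective.comp fun p p' h => ?_⟩
  have h1 := fun u : (Fin a ⊕ Fin a → F) × (Fin b ⊕ Fin b → F) => congrArg (fun e : isometries B => (e : ((Fin a ⊕ Fin a → F) × (Fin b ⊕ Fin b → F)) ≃ₗ[F] ((Fin a ⊕ Fin a → F) × (Fin b ⊕ Fin b → F))) u) h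
  exact Prod.ext (ext_of_mulVec fun v => by simpa [g, spToLinearEquiv_apply] using congrArg Prod.fst (h1 (v, 0)))
    (ext_of_mulVec fun v => by simpa [g, spToLinearEquiv_apply] using congrArg Prod.snd (h1 (0, v)))

/-- SL₂ of an extension field of degree `d` lies in Sp_{2d}. -/
theorem exists_sl2_embedding (E : Type*) [Field E] [Algebra F E] [FiniteDimensional F E] [Algebra.IsSeparable F E]
    {d : ℕ} (hd : finrank F E = d) :
    ∃ f : Matrix.SpecialLinearGroup (Fin 2) E →* Matrix.symplecticGroup (Fin d) F, Function.Injective f := by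
  classical
  let det2 : LinearMap.BilinForm F (Fin 2 → E) := LinearMap.mk₂ F
    (fun u v => Algebra.trace F E (u 0 * v 1 - u 1 * v 0))
    (fun u u' v => by rw [← map_add]; congr 1; simp; ring)
    (fun c u v => by rw [← map_smul]; congr 1; simp [smul_sub])
    (fun u v v' => by rw [← map_add]; congr 1; simp; ring)
    (fun c u v => by rw [← map_smul]; congr 1; simp [smul_sub])
  have hB : ∀ u v, det2 u v = Algebra.trace F E (u 0 * v 1 - u 1 * v 0) := fun u v => rfl
  have hA : det2.IsAlt := fun u => by rw [hB, mul_comm, sub_self, map_zero]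
  have htr : ∀ e : E, (∀ c, Algebra.trace F E (e * c) = 0) → e = 0 := fun e he => by
    refine (traceForm_nondegenerate F E).1 e fun c => ?_
    rw [Algebra.traceForm_apply]; exact he c
  have hN : det2.Nondegenerate := by
    have key : ∀ u, (∀ v, det2 u v = 0) → u = 0 := fun u hu => by
      have h0 : u 0 = 0 := htr _ fun c => by simpa [hB] using hu ![0, c]
      have h1 : u 1 = 0 := htr _ fun c => by simpa [hB] using hu ![c, 0]
      funext i; fin_cases i <;> assumption
    exact ⟨key, fun v hv => key v fun u => by rw [← hA.neg_eq, hv u, neg_zero]⟩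
  obtain ⟨φ⟩ := isometries_equiv_sp det2 hN hA (m := d) (by
    rw [Module.finrank_pi_fintype]; simp [hd])
  let L : Matrix.SpecialLinearGroup (Fin 2) E →* ((Fin 2 → E) ≃ₗ[F] (Fin 2 → E)) :=
    { toFun := fun g => (Matrix.SpecialLinearGroup.toLin' g).restrictScalars F
      map_one' := LinearEquiv.ext fun u => by simp
      map_mul' := fun g h => LinearEquiv.ext fun u => by simp }
  let g : Matrix.SpecialLinearGroup (Fin 2) E →* isometries det2 := L.codRestrict _ fun g u v => by
    rw [hB, hB]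
    congr 1
    have hdet : g.1 0 0 * g.1 1 1 - g.1 0 1 * g.1 1 0 = 1 := by rw [← Matrix.det_fin_two]; exact g.2
    show (g.1 *ᵥ u) 0 * (g.1 *ᵥ v) 1 - (g.1 *ᵥ u) 1 * (g.1 *ᵥ v) 0 = _
    simp [Matrix.mulVec, dotProduct, Fin.sum_univ_two]
    linear_combination (u 0 * v 1 - u 1 * v 0) * hdet
  refine ⟨φ.toMonoidHom.comp g, φ.injective.comp fun p p' h => ?_⟩
  have h1 := fun u : Fin 2 → E => congrArg (fun e : isometries det2 => (e : (Fin 2 → E) ≃ₗ[F] (Fin 2 → E)) u) h
  exact Subtype.ext (Matrix.ext_of_mulVec_single fun i => h1 (Pi.single i 1))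

/-- Orders in SL₂. -/
theorem exists_sl2_orderOf {E : Type*} [Field E] [Fintype E] [DecidableEq E] {N : ℕ}
    (hN : N ∣ Fintype.card E - 1 ∨ N ∣ Fintype.card E + 1) :
    ∃ g : Matrix.SpecialLinearGroup (Fin 2) E, orderOf g = N := by
  rcases hN with h | h
  · have hdvd : N ∣ Nat.card Eˣ := by rwa [Nat.card_units, Nat.card_eq_fintype_card]
    obtain ⟨u, hu⟩ := IsCyclic.exists_ofOrder_eq_natCard (α := Eˣ)
    obtain ⟨c, hc⟩ := hdvd
    have hc0 : c ≠ 0 := fun h0 => by rw [h0, mul_zero] at hc; exact Nat.card_pos.ne' hc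
    let D : Eˣ →* Matrix.SpecialLinearGroup (Fin 2) E := MonoidHom.mk' H6.diagSL H6.diagSL_mul
    have hD : Function.Injective D := fun a b hab =>
      Units.ext (by simpa [D, H6.diagSL] using congrArg (fun g : Matrix.SpecialLinearGroup (Fin 2) E => g.1 0 0) hab)
    refine ⟨D (u ^ c), ?_⟩
    rw [orderOf_injective D hD, orderOf_pow' _ hc0, hu, hc, Nat.gcd_eq_right (dvd_mul_left c N),
      Nat.mul_div_cancel _ (Nat.pos_of_ne_zero hc0)]
  · obtain ⟨t, ht⟩ := H6.exists_not_split (F := E)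
    have htr : ¬ H6.Split (H6.tr (H6.comp t)) := by rwa [H6.tr_comp]
    have hcard := H6.card_cent_nonsplit (H6.sq_ne_four_of_not_split htr) htr
    have := H6.cent_nonsplit_cyclic htr
    obtain ⟨u, hu⟩ := IsCyclic.exists_ofOrder_eq_natCard (α := H6.cent (H6.comp t))
    rw [hcard] at hu
    obtain ⟨c, hc⟩ := h
    have hc0 : c ≠ 0 := fun h0 => by rw [h0, mul_zero] at hc; omega
    refine ⟨(u ^ c : H6.cent (H6.comp t)).1, ?_⟩
    rw [Subgroup.orderOf_coe, orderOf_pow' _ hc0, hu, hc, Nat.gcd_eq_right (dvd_mul_left c N),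
      Nat.mul_div_cancel _ (Nat.pos_of_ne_zero hc0)]

/-- An element of Sp of odd order keeps its order in PSp. -/
theorem orderOf_mk_of_odd (hn : 1 ≤ n) {g : Matrix.symplecticGroup (Fin n) F} {N : ℕ} (hg : orderOf g = N)
    (hN : Odd N) : orderOf (QuotientGroup.mk' (Subgroup.center (Matrix.symplecticGroup (Fin n) F)) g) = N := by
  refine Nat.dvd_antisymm (hg ▸ orderOf_map_dvd _ _) ?_
  set h := QuotientGroup.mk' (Subgroup.center (Matrix.symplecticGroup (Fin n) F)) g
  have hz : g ^ orderOf h ∈ Subgroup.center (Matrix.symplecticGroup (Fin n) F) := by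
    rw [← QuotientGroup.eq_one_iff]
    show QuotientGroup.mk' _ (g ^ orderOf h) = 1
    rw [map_pow]
    exact pow_orderOf_eq_one _
  refine (Nat.coprime_two_right.mpr hN).dvd_of_dvd_mul_right ?_
  rw [← hg]
  refine orderOf_dvd_of_pow_eq_one ?_
  rw [pow_mul, sq]
  apply Subtype.ext
  rcases (mem_center_iff_eq hn _).mp hz with e | e <;> rw [Submonoid.coe_mul, e] <;> simp

/-- Adjacency of two odd primes from the arithmetic condition. -/
theorem exists_orderOf_two_primes {p : ℕ} [Fact p.Prime] [CharP F p] (hr2 : r ≠ 2) (hs2 : s ≠ 2) (hrs : r ≠ s)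
    (hr : (r : F) ≠ 0) (hs : (s : F) ≠ 0) {ηk ηl : ℕ} (hηk : IsEta (orderOf (Nat.card F : ZMod r)) ηk)
    (hηl : IsEta (orderOf (Nat.card F : ZMod s)) ηl) (hln : ηl ≤ n)
    (h : ηk + ηl ≤ n ∨ ∃ t, Odd t ∧ orderOf (Nat.card F : ZMod s) = orderOf (Nat.card F : ZMod r) * t) :
    ∃ g : Cfsg.PSp n F, orderOf g = r * s := by
  classical
  cases nonempty_fintype F
  have hodd : Odd (r * s) :=
    ((Fact.out : r.Prime).odd_of_ne_two hr2).mul ((Fact.out : s.Prime).odd_of_ne_two hs2)
  have hn1 : 1 ≤ n := by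
    have := orderOf_pos_zmod hs
    rcases hηl with ⟨-, he⟩ | ⟨-, he⟩ <;> omega
  have hco : Nat.Coprime r s := (Nat.coprime_primes Fact.out Fact.out).mpr hrs
  rcases h with hle | ⟨t, ht, hlt⟩
  · obtain ⟨b, rfl⟩ : ∃ b, n = ηk + b := ⟨n - ηk, by omega⟩
    obtain ⟨x, hx⟩ := exists_orderOf_sp hr hηk le_rfl
    obtain ⟨y, hy⟩ := exists_orderOf_sp hs hηl (show ηl ≤ b by omega)
    obtain ⟨f, hf⟩ := exists_prod_embedding F ηk b
    exact ⟨_, orderOf_mk_of_odd hn1 (g := f (x, y))
      (by rw [orderOf_injective f hf, Prod.orderOf, hx, hy, hco.lcm_eq_mul]) hodd⟩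
  · set k := orderOf (Nat.card F : ZMod r) with hk
    set l := orderOf (Nat.card F : ZMod s) with hl
    let E := FiniteField.Extension F p ηl
    have hη0 : 1 ≤ ηl := by
      have := orderOf_pos_zmod hs
      rcases hηl with ⟨-, he⟩ | ⟨-, he⟩ <;> omega
    haveI : NeZero ηl := ⟨by omega⟩
    haveI : Fintype E := Fintype.ofFinite _
    have hE : finrank F E = ηl := FiniteField.finrank_extension F p ηl
    have hQ : Fintype.card E = Nat.card F ^ ηl := by
      rw [← Nat.card_eq_fintype_card, FiniteField.natCard_extension]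
    have hcast : ∀ {u : ℕ} [Fact u.Prime] {a : ℕ}, ((Nat.card F : ZMod u) ^ a = 1 → u ∣ Nat.card F ^ a - 1) ∧
        ((Nat.card F : ZMod u) ^ a = -1 → u ∣ Nat.card F ^ a + 1) := by
      intro u _ a
      refine ⟨fun h => ?_, fun h => ?_⟩
      · rw [← ZMod.natCast_eq_zero_iff, Nat.cast_sub (Nat.one_le_pow _ _ Nat.card_pos), Nat.cast_pow,
          Nat.cast_one, h, sub_self]
      · rw [← ZMod.natCast_eq_zero_iff, Nat.cast_add, Nat.cast_pow, Nat.cast_one, h, neg_add_cancel]
    have hNdvd : r * s ∣ Fintype.card E - 1 ∨ r * s ∣ Fintype.card E + 1 := by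
      rw [hQ]
      rcases hηl with ⟨-, he⟩ | ⟨hle2, he⟩
      · left
        refine hco.mul_dvd_of_dvd_of_dvd (hcast.1 ?_) (hcast.1 ?_)
        · rw [he, ← orderOf_dvd_iff_pow_eq_one, hlt]; exact dvd_mul_right _ _
        · rw [he]; exact pow_orderOf_eq_one _
      · right
        have hke : Even k := by
          rw [hlt, Nat.even_mul] at hle2
          exact hle2.resolve_right (Nat.not_even_iff_odd.mpr ht)
        have hhalf : ∀ {u : ℕ} [Fact u.Prime] (η : ℕ), 0 < η → 2 * η = orderOf (Nat.card F : ZMod u) →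
            (Nat.card F : ZMod u) ^ η = -1 := by
          intro u _ η hη hu
          have h1 : ((Nat.card F : ZMod u) ^ η) * ((Nat.card F : ZMod u) ^ η) = 1 := by
            rw [← pow_add, ← two_mul, hu, pow_orderOf_eq_one]
          exact (mul_self_eq_one_iff.mp h1).resolve_left (pow_ne_one_of_lt_orderOf hη.ne' (by omega))
        obtain ⟨κ, hκ⟩ := hke
        have hκ0 : 0 < κ := by have := orderOf_pos_zmod hr; omega
        refine hco.mul_dvd_of_dvd_of_dvd (hcast.2 ?_) (hcast.2 (hhalf ηl hη0 he))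
        rw [show ηl = κ * t by rw [hlt, hκ] at he; linarith, pow_mul, hhalf κ hκ0 (by omega), ht.neg_one_pow]
    obtain ⟨g, hg⟩ := exists_sl2_orderOf hNdvd
    obtain ⟨f, hf⟩ := exists_sl2_embedding (F := F) E hE
    obtain ⟨b, rfl⟩ : ∃ b, n = ηl + b := ⟨n - ηl, by omega⟩
    obtain ⟨f', hf'⟩ := exists_prod_embedding F ηl b
    exact ⟨_, orderOf_mk_of_odd hn1 (g := f' (f g, 1))
      (by rw [orderOf_injective f' hf', Prod.orderOf, orderOf_injective f hf, hg, orderOf_one, Nat.lcm_one_right]) hodd⟩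

/-- An element of order `r s` in PSp gives commuting elements in Sp. -/
theorem exists_commuting_two_primes (g : Cfsg.PSp n F) (hg : orderOf g = r * s) :
    ∃ x y : Matrix.symplecticGroup (Fin n) F, x ^ r = 1 ∧ x ≠ 1 ∧ y ^ s = 1 ∧ y ≠ 1 ∧ Commute x y := by
  obtain ⟨a, rfl⟩ := QuotientGroup.mk'_surjective _ g
  have hd : r * s ∣ orderOf a := hg ▸ orderOf_map_dvd _ _
  have h0 : orderOf a ≠ 0 := orderOf_ne_zero_iff.mpr (isOfFinOrder_of_finite a)
  have ha := orderOf_pow_orderOf_div h0 (dvd_trans (dvd_mul_right r s) hd)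
  have hb := orderOf_pow_orderOf_div h0 (dvd_trans (dvd_mul_left s r) hd)
  refine ⟨_, _, orderOf_dvd_iff_pow_eq_one.mp ha.dvd, fun h => ?_, orderOf_dvd_iff_pow_eq_one.mp hb.dvd,
    fun h => ?_, (Commute.refl a).pow_pow _ _⟩
  · rw [h, orderOf_one] at ha; exact (Fact.out : r.Prime).ne_one ha.symm
  · rw [h, orderOf_one] at hb; exact (Fact.out : s.Prime).ne_one hb.symm

end Cfsg.Agent.H2
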